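import Groth.Agent.Lib.PicH1_21.God
import Groth.Agent.Lib.Twist.Gen
import Groth.Agent.Lib.Twist.UniversalExist
import Groth.Agent.Lib.TensorMod.Invertible
import Groth.Prelude.Def_PicGrp
import Groth.Agent.Lib.Curve17.SubSheaf

/-!
# The class of an invertible module in `H¹` of the units
-/

set_option autoImplicit false
set_option backward.isDefEq.respectTransparency false

open CategoryTheory CategoryTheory.Limits AlgebraicGeometry TopologicalSpace Opposite TensorProduct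

universe u

noncomputable section

namespace Groth.Agent.PicH1_21

open Groth.Agent.M1

variable {X Y : Scheme.{u}} (f : Y ⟶ X) {L M : Y.Modules}

/-- The unit at a point of a family. -/
abbrev uv {D : X.Opens} (g : GSec f D) (y : ((f ⁻¹ᵁ D : Y.Opens))) : (Y.presheaf.stalk y.1) :=
  ((Additive.toMul (g y) : (Y.presheaf.stalk y.1)ˣ) : Y.presheaf.stalk y.1)

/-- Generators of all the stalks of `L`. -/
def IsStGen (L : Y.Modules) (e : ∀ y : Y, (L.presheaf.stalk y : Type u)) : Prop :=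
  ∀ y, Function.Bijective fun c : Y.presheaf.stalk y => c • e y

/-- `g` gives the germs of `s` in the frame `e`. -/
def Rel (e : ∀ y : Y, (L.presheaf.stalk y : Type u)) {D : X.Opens} (s : Γ(L, f ⁻¹ᵁ D)) (g : GSec f D) : Prop :=
  ∀ y : ((f ⁻¹ᵁ D : Y.Opens)), L.presheaf.germ (f ⁻¹ᵁ D) y.1 y.2 s = uv f g y • e y.1

/-- `q` is the quotient class of the frame `e`. -/
def IsRep (L : Y.Modules) (e : ∀ y : Y, (L.presheaf.stalk y : Type u)) (q : QSec f ⊤) : Prop :=
  ∀ (D : X.Opens) (s : Γ(L, f ⁻¹ᵁ D)) (g : GSec f D), Twist.IsGen L (f ⁻¹ᵁ D) s → Rel f e s g →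
    qres f le_top q = π f D g

/-- Invertible modules on `Y` are trivial over the preimages of small opens of `X`. -/
def Good : Prop := ∀ (L : Y.Modules), PicF.IsInvertible L → ∀ x : X,
  ∃ (D : X.Opens) (s : Γ(L, f ⁻¹ᵁ D)), x ∈ D ∧ Twist.IsGen L (f ⁻¹ᵁ D) s

theorem exists_isStGen (hL : PicF.IsInvertible L) : ∃ e, IsStGen L e := by
  have h : ∀ y : Y, ∃ e : (L.presheaf.stalk y : Type u), Function.Bijective fun c : Y.presheaf.stalk y => c • e := by
    intro y
    obtain ⟨D, s, hy, hs⟩ := ProjUP.exists_isGen_of_invertible hL y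
    exact ⟨_, hs.stalk hy⟩
  choose e he using h
  exact ⟨e, he⟩

theorem exists_rel {e : ∀ y : Y, (L.presheaf.stalk y : Type u)} (he : IsStGen L e) {D : X.Opens}
    {s : Γ(L, f ⁻¹ᵁ D)} (hs : Twist.IsGen L (f ⁻¹ᵁ D) s) : ∃ g, Rel f e s g := by
  have h : ∀ y : ((f ⁻¹ᵁ D : Y.Opens)), ∃ c : (Y.presheaf.stalk y.1)ˣ,
      L.presheaf.germ (f ⁻¹ᵁ D) y.1 y.2 s = (c : Y.presheaf.stalk y.1) • e y.1 := by
    intro y
    obtain ⟨c, hc⟩ := (he y.1).2 (L.presheaf.germ (f ⁻¹ᵁ D) y.1 y.2 s)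
    obtain ⟨d, hd⟩ := (hs.stalk y.2).2 (e y.1)
    have hdc : d * c = 1 := (he y.1).1 (by
      show (d * c) • e y.1 = (1 : Y.presheaf.stalk y.1) • e y.1
      rw [mul_smul, one_smul, show c • e y.1 = _ from hc]
      exact hd)
    exact ⟨(IsUnit.of_mul_eq_one d (by rw [mul_comm]; exact hdc)).unit, hc.symm⟩
  choose c hc using h
  exact ⟨fun y => Additive.ofMul (c y), hc⟩

theorem Rel.mres {e : ∀ y : Y, (L.presheaf.stalk y : Type u)} {D D' : X.Opens} {s : Γ(L, f ⁻¹ᵁ D)} {g : GSec f D}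
    (h : Rel f e s g) (hD : D' ≤ D) : Rel f e (M1.mres L (f.preimage_mono hD) s) (gres f hD g) := fun y =>
  (germ_mres L (f.preimage_mono hD) y.2 s).trans (h ⟨y.1, f.preimage_mono hD y.2⟩)

theorem π_eq_of_gens {e : ∀ y : Y, (L.presheaf.stalk y : Type u)} (he : IsStGen L e) {D : X.Opens}
    {s s' : Γ(L, f ⁻¹ᵁ D)} (hs : Twist.IsGen L (f ⁻¹ᵁ D) s) (hs' : Twist.IsGen L (f ⁻¹ᵁ D) s')
    {g g' : GSec f D} (hg : Rel f e s g) (hg' : Rel f e s' g') : π f D g = π f D g' := by
  obtain ⟨r, hr⟩ := (hs _ le_rfl).2 s'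
  obtain ⟨r', hr'⟩ := (hs' _ le_rfl).2 s
  simp only [mres_id] at hr hr'
  have hrr : r' * r = 1 := (hs _ le_rfl).1 (by
    show (r' * r) • M1.mres L le_rfl s = (1 : Γ(Y, f ⁻¹ᵁ D)) • M1.mres L le_rfl s
    rw [mres_id, mul_smul, hr, one_smul, hr'])
  let u : Γ(Y, f ⁻¹ᵁ D)ˣ := ⟨r, r', by rw [mul_comm]; exact hrr, hrr⟩
  have key : g' = fun y => Additive.ofMul (gu (f ⁻¹ᵁ D) y u) + g y := by
    funext y
    refine Additive.toMul.injective (Units.ext ((he y.1).1 ?_))
    show uv f g' y • e y.1 = (Y.presheaf.germ (f ⁻¹ᵁ D) y.1 y.2 r * uv f g y) • e y.1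
    rw [← hg' y, mul_smul, ← hg y, ← germ_smul, hr]
  rw [key, π_units]

theorem isRep_of_cover {e : ∀ y : Y, (L.presheaf.stalk y : Type u)} (he : IsStGen L e) (q : QSec f ⊤)
    (h : ∀ x : X, ∃ (D : X.Opens) (s : Γ(L, f ⁻¹ᵁ D)) (g : GSec f D),
      x ∈ D ∧ Twist.IsGen L (f ⁻¹ᵁ D) s ∧ Rel f e s g ∧ qres f le_top q = π f D g) :
    IsRep f L e q := by
  intro D s g hs hg
  choose D' s' g' hx hs' hg' hq using h
  refine q_ext f (fun x : X => D ⊓ D' x) (fun x => inf_le_left)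
    (fun x hxD => Opens.mem_iSup.2 ⟨x, hxD, hx x⟩) fun x => ?_
  rw [qres_π, qres_qres, ← qres_qres f le_top inf_le_right, hq x, qres_π]
  exact π_eq_of_gens f he ((hs' x).mres _) (hs.mres _) ((hg' x).mres f _) (hg.mres f _)

variable {f}

theorem exists_isRep (hG : Good f) (hL : PicF.IsInvertible L)
    {e : ∀ y : Y, (L.presheaf.stalk y : Type u)} (he : IsStGen L e) : ∃ q, IsRep f L e q := by
  choose D s hx hs using hG L hL
  choose g hg using fun x => exists_rel f he (hs x)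
  obtain ⟨Q, hQ⟩ := q_glue f D (fun _ => le_top) (fun x _ => Opens.mem_iSup.2 ⟨x, hx x⟩)
    (fun x => π f (D x) (g x)) fun x x' => by
      rw [qres_π, qres_π]
      exact π_eq_of_gens f he ((hs x).mres _) ((hs x').mres _) ((hg x).mres f _) ((hg x').mres f _)
  exact ⟨Q, isRep_of_cover f he Q fun x => ⟨D x, s x, g x, hx x, hs x, hg x, hQ x⟩⟩

theorem IsRep.unique (hG : Good f) (hL : PicF.IsInvertible L) {e : ∀ y : Y, (L.presheaf.stalk y : Type u)}
    (he : IsStGen L e) {q q' : QSec f ⊤} (h : IsRep f L e q) (h' : IsRep f L e q') : q = q' := by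
  choose D s hx hs using hG L hL
  refine q_ext f D (fun _ => le_top) (fun x _ => Opens.mem_iSup.2 ⟨x, hx x⟩) fun x => ?_
  obtain ⟨g, hg⟩ := exists_rel f he (hs x)
  exact (h _ _ _ (hs x) hg).trans (h' _ _ _ (hs x) hg).symm

/-- Changing the frame changes the class by a family. -/
theorem IsRep.change (hG : Good f) (hL : PicF.IsInvertible L) {e e' : ∀ y : Y, (L.presheaf.stalk y : Type u)}
    (he : IsStGen L e) (he' : IsStGen L e') {q q' : QSec f ⊤} (h : IsRep f L e q) (h' : IsRep f L e' q') :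
    δ f q = δ f q' := by
  have hc : ∀ y : Y, ∃ c : (Y.presheaf.stalk y)ˣ, e' y = (c : Y.presheaf.stalk y) • e y := by
    intro y
    obtain ⟨c, hc⟩ := (he y).2 (e' y)
    obtain ⟨d, hd⟩ := (he' y).2 (e y)
    have hdc : d * c = 1 := (he y).1 (by
      show (d * c) • e y = (1 : Y.presheaf.stalk y) • e y
      rw [mul_smul, one_smul, show c • e y = _ from hc]
      exact hd)
    exact ⟨(IsUnit.of_mul_eq_one d (by rw [mul_comm]; exact hdc)).unit, hc.symm⟩
  choose c hc using hc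
  let C : GSec f ⊤ := fun y => Additive.ofMul (c y.1)
  have key : IsRep f L e (q' + π f ⊤ C) := by
    choose D s hx hs using hG L hL
    refine isRep_of_cover f he _ fun x => ?_
    obtain ⟨g, hg⟩ := exists_rel f he' (hs x)
    refine ⟨D x, s x, fun y => g y + Additive.ofMul (c y.1), hx x, hs x, fun y => ?_, ?_⟩
    · rw [hg y, hc y.1, ← mul_smul]
      rfl
    · rw [map_add, h' _ _ _ (hs x) hg, qres_π, ← map_add]
      rfl
  rw [h.unique hG hL he key, map_add, δ_π, add_zero]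

/-- The class of an invertible module. -/
def cl (hG : Good f) (L : Y.Modules) (hL : PicF.IsInvertible L) : H1 f :=
  δ f (exists_isRep hG hL (exists_isStGen hL).choose_spec).choose

theorem cl_eq (hG : Good f) (hL : PicF.IsInvertible L) {e : ∀ y : Y, (L.presheaf.stalk y : Type u)}
    (he : IsStGen L e) {q : QSec f ⊤} (h : IsRep f L e q) : cl hG L hL = δ f q :=
  (exists_isRep hG hL (exists_isStGen hL).choose_spec).choose_spec.change hG hL
    (exists_isStGen hL).choose_spec he h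

theorem stalkAb_map_smul (φ : L ⟶ M) (y : Y) (c : Y.presheaf.stalk y) (a : (L.presheaf.stalk y : Type u)) :
    (stalkAb y).map φ (c • a) = c • (show (M.presheaf.stalk y : Type u) from (stalkAb y).map φ a) := by
  obtain ⟨U, hU, r, rfl⟩ := Y.presheaf.exists_germ_eq c
  obtain ⟨V, hV, t, rfl⟩ := L.presheaf.exists_germ_eq a
  have hW : y ∈ U ⊓ V := ⟨hU, hV⟩
  rw [← Y.presheaf.germ_res_apply (homOfLE (inf_le_left : U ⊓ V ≤ U)) y hW r,
    ← germ_mres L (inf_le_right : U ⊓ V ≤ V) hW t]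
  erw [← germ_smul]
  rw [germ_naturality, germ_naturality, Scheme.Modules.Hom.app_smul]
  exact germ_smul M hW _ _

/-- The map of stalks, linear over the local ring. -/
def stMapL (φ : L ⟶ M) (y : Y) :
    (L.presheaf.stalk y : Type u) →ₗ[Y.presheaf.stalk y] (M.presheaf.stalk y : Type u) where
  toFun a := (stalkAb y).map φ a
  map_add' a b := map_add ((stalkAb y).map φ).hom a b
  map_smul' c a := stalkAb_map_smul φ y c a

theorem cl_iso (hG : Good f) (hL : PicF.IsInvertible L) (hM : PicF.IsInvertible M) (φ : L ≅ M) :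
    cl hG L hL = cl hG M hM := by
  obtain ⟨e, he⟩ := exists_isStGen hL
  obtain ⟨q, hq⟩ := exists_isRep hG hL he
  have hb : ∀ y : Y, Function.Bijective (stMapL φ.hom y) := fun y =>
    ConcreteCategory.bijective_of_isIso ((stalkAb y).map φ.hom)
  let e' : ∀ y : Y, (M.presheaf.stalk y : Type u) := fun y => stMapL φ.hom y (e y)
  have he' : IsStGen M e' := fun y => by
    convert (hb y).comp (he y) using 1
    funext c
    exact ((stMapL φ.hom y).map_smul c (e y)).symm
  have hq' : IsRep f M e' q := by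
    choose D s hx hs using hG L hL
    refine isRep_of_cover f he' q fun x => ?_
    obtain ⟨g, hg⟩ := exists_rel f he (hs x)
    refine ⟨D x, φ.hom.app _ (s x), g, hx x, ?_, fun y => ?_, hq _ _ _ (hs x) hg⟩
    · refine Twist.isGen_of_stalk fun y hy => ?_
      convert (hb y).comp ((hs x).stalk hy) using 1
      funext c
      exact (((stMapL φ.hom y).map_smul c _).trans (congrArg (c • ·) (germ_naturality φ.hom _ y hy (s x)))).symm
    · rw [← germ_naturality φ.hom _ y.1 y.2 (s x), hg y]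
      exact stalkAb_map_smul φ.hom y.1 _ _
  rw [cl_eq hG hL he hq, cl_eq hG hM he' hq']

/-- A frame of a tensor product. -/
def tensFrame (a : ∀ y : Y, (L.presheaf.stalk y : Type u)) (b : ∀ y : Y, (M.presheaf.stalk y : Type u)) (y : Y) :
    ((CohB1.tensorMod L M).presheaf.stalk y : Type u) :=
  (M2.stalkEquiv L M y).symm (a y ⊗ₜ b y)

theorem bijective_smul_tmul {R A B : Type u} [CommRing R] [AddCommGroup A] [AddCommGroup B] [Module R A] [Module R B]
    {a : A} {b : B} (ha : Function.Bijective fun c : R => c • a) (hb : Function.Bijective fun c : R => c • b) :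
    Function.Bijective fun c : R => c • (a ⊗ₜ[R] b) := by
  let ea : R ≃ₗ[R] A := LinearEquiv.ofBijective (LinearMap.toSpanSingleton R A a) ha
  let eb : R ≃ₗ[R] B := LinearEquiv.ofBijective (LinearMap.toSpanSingleton R B b) hb
  let E := (TensorProduct.lid R R).symm ≪≫ₗ TensorProduct.congr ea eb
  convert E.bijective using 1
  funext c
  show c • (a ⊗ₜ[R] b) = TensorProduct.congr ea eb ((1 : R) ⊗ₜ[R] c)
  rw [TensorProduct.congr_tmul]
  show c • (a ⊗ₜ[R] b) = ((1 : R) • a) ⊗ₜ[R] (c • b)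
  rw [one_smul, TensorProduct.tmul_smul]

theorem isStGen_tensFrame {a : ∀ y : Y, (L.presheaf.stalk y : Type u)} {b : ∀ y : Y, (M.presheaf.stalk y : Type u)}
    (ha : IsStGen L a) (hb : IsStGen M b) : IsStGen (CohB1.tensorMod L M) (tensFrame a b) := fun y => by
  convert (M2.stalkEquiv L M y).symm.bijective.comp (bijective_smul_tmul (ha y) (hb y)) using 1
  funext c
  exact ((M2.stalkEquiv L M y).symm.map_smul c _).symm

theorem cl_tensor (hG : Good f) (hL : PicF.IsInvertible L) (hM : PicF.IsInvertible M)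
    (hLM : PicF.IsInvertible (CohB1.tensorMod L M)) :
    cl hG _ hLM = cl hG L hL + cl hG M hM := by
  obtain ⟨a, ha⟩ := exists_isStGen hL
  obtain ⟨b, hb⟩ := exists_isStGen hM
  obtain ⟨q, hq⟩ := exists_isRep hG hL ha
  obtain ⟨q', hq'⟩ := exists_isRep hG hM hb
  have key : IsRep f (CohB1.tensorMod L M) (tensFrame a b) (q + q') := by
    refine isRep_of_cover f (isStGen_tensFrame ha hb) _ fun x => ?_
    obtain ⟨D₁, s₁, hx₁, hs₁⟩ := hG L hL x
    obtain ⟨D₂, s₂, hx₂, hs₂⟩ := hG M hM x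
    have hs₁' := hs₁.mres (f.preimage_mono (inf_le_left : D₁ ⊓ D₂ ≤ D₁))
    have hs₂' := hs₂.mres (f.preimage_mono (inf_le_right : D₁ ⊓ D₂ ≤ D₂))
    obtain ⟨g₁, hg₁⟩ := exists_rel f ha hs₁'
    obtain ⟨g₂, hg₂⟩ := exists_rel f hb hs₂'
    refine ⟨D₁ ⊓ D₂, M2.tsec L M (M1.mres L (f.preimage_mono inf_le_left) s₁)
      (M1.mres M (f.preimage_mono inf_le_right) s₂), g₁ + g₂, ⟨hx₁, hx₂⟩, ?_, fun y => ?_, ?_⟩
    · refine Twist.isGen_of_stalk fun y hy => ?_
      convert (M2.stalkEquiv L M y).symm.bijective.comp (bijective_smul_tmul (hs₁'.stalk hy) (hs₂'.stalk hy)) using 1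
      funext c
      refine Eq.trans ?_ ((M2.stalkEquiv L M y).symm.map_smul c _).symm
      rw [← M2.stalkEquiv_tsec L M y hy, LinearEquiv.symm_apply_apply]
    · refine (M2.stalkEquiv L M y.1).injective ?_
      rw [M2.stalkEquiv_tsec, map_smul, tensFrame, LinearEquiv.apply_symm_apply, hg₁ y, hg₂ y,
        TensorProduct.smul_tmul_smul]
      rfl
    · rw [map_add, hq _ _ _ hs₁' hg₁, hq' _ _ _ hs₂' hg₂, map_add]
  rw [cl_eq hG hL ha hq, cl_eq hG hM hb hq', cl_eq hG hLM (isStGen_tensFrame ha hb) key, map_add]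

/-- A module of class `0` is trivial. -/
theorem nonempty_iso_of_cl_eq_zero (hG : Good f) (hL : PicF.IsInvertible L) (h : cl hG L hL = 0) :
    Nonempty (L ≅ Coh.structureModule Y) := by
  obtain ⟨e, he⟩ := exists_isStGen hL
  obtain ⟨q, hq⟩ := exists_isRep hG hL he
  rw [cl_eq hG hL he hq] at h
  obtain ⟨G, hGq⟩ := (δ_eq_zero_iff f q).1 h
  let e' : ∀ y : Y, (L.presheaf.stalk y : Type u) := fun y => uv f G ⟨y, trivial⟩ • e y
  have hloc : (Curve17.germPred L).sheafify.pred (fun y : (⊤ : Y.Opens) => e' y.1) := by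
    intro y
    obtain ⟨D, s, hx, hs⟩ := hG L hL (f y.1)
    obtain ⟨g, hg⟩ := exists_rel f he hs
    have hπ : π f D (gres f le_top G) = π f D g := by
      rw [← qres_π, hGq, hq D s g hs hg]
    obtain ⟨r, hr⟩ := exists_unit_of_π_eq f hπ
    refine ⟨f ⁻¹ᵁ D, hx, homOfLE le_top, (↑r⁻¹ : Γ(Y, f ⁻¹ᵁ D)) • s, fun z => ?_⟩
    rw [germ_smul, hg z, ← mul_smul]
    congr 1
    rw [show uv f g z = Y.presheaf.germ (f ⁻¹ᵁ D) z.1 z.2 (r : Γ(Y, f ⁻¹ᵁ D)) * uv f G ⟨z.1, trivial⟩ from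
      congrArg (fun t : T Y z.1 => ((Additive.toMul t : (Y.presheaf.stalk z.1)ˣ) : Y.presheaf.stalk z.1)) (hr z),
      ← mul_assoc, ← map_mul, Units.inv_mul, map_one, one_mul]
    rfl
  obtain ⟨m, hm, -⟩ := Curve17.existsUnique_of_germPred L _ hloc
  refine Twist.nonempty_iso_of_generator L m fun U => ?_
  refine Twist.isGen_of_stalk (g := m) (fun y hy => ?_) U le_top
  rw [hm ⟨y, hy⟩]
  show Function.Bijective fun c : Y.presheaf.stalk y => c • uv f G ⟨y, trivial⟩ • e y
  simp only [← mul_smul]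
  exact (he y).comp (Units.mulRight_bijective (Additive.toMul (G ⟨y, trivial⟩)))

end Groth.Agent.PicH1_21
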