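import Groth.Agent.Lib.PicH1_21.Twisted

/-!
# Functoriality of the class in the scheme
-/

set_option autoImplicit false
set_option backward.isDefEq.respectTransparency false

open CategoryTheory CategoryTheory.Limits AlgebraicGeometry TopologicalSpace Opposite TensorProduct

universe u

noncomputable section

namespace Groth.Agent.PicH1_21

open Groth.Agent.M1

variable {X Y : Scheme.{u}}

/-- Push along the identity. -/
def idIso (F : CohTop.Ab X.toTopCat) : (CohTop.push (𝟙 X : X ⟶ X).base).obj F ≅ F where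
  hom := ⟨{ app := fun U => AddCommGrpCat.ofHom (AddMonoidHom.id _), naturality := fun _ _ _ => rfl }⟩
  inv := ⟨{ app := fun U => AddCommGrpCat.ofHom (AddMonoidHom.id _), naturality := fun _ _ _ => rfl }⟩
  hom_inv_id := rfl
  inv_hom_id := rfl

variable (f : Y ⟶ X)

/-- `O_X^× → f_* O_Y^×`, with the source written as a push along the identity. -/
def unitMap : (CohTop.push (𝟙 X : X ⟶ X).base).obj (UnitsSh.unitsAb X) ⟶
    (CohTop.push f.base).obj (UnitsSh.unitsAb Y) :=
  (idIso _).hom ≫ UnitsSh.comap f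

/-- Families pull back along `f`. -/
def godMap : (CohTop.push (𝟙 X : X ⟶ X).base).obj (godSh X) ⟶ (CohTop.push f.base).obj (godSh Y) :=
  ⟨{ app := fun U => AddCommGrpCat.ofHom
      { toFun := fun g y => Additive.ofMul (Units.map (f.stalkMap y.1).hom.toMonoidHom
          (Additive.toMul (g ⟨f y.1, y.2⟩)))
        map_zero' := funext fun y => congrArg Additive.ofMul (map_one _)
        map_add' := fun g h => funext fun y => congrArg Additive.ofMul (map_mul _ _ _) }
     naturality := fun _ _ _ => rfl }⟩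

theorem unitMap_comm : (CohTop.push (𝟙 X : X ⟶ X).base).map (unitsGod X) ≫ godMap f =
    unitMap f ≫ (CohTop.push f.base).map (unitsGod Y) := by
  apply Sheaf.hom_ext
  ext U s
  funext y
  refine congrArg Additive.ofMul (Units.ext ?_)
  exact Scheme.Hom.germ_stalkMap_apply f _ y.1 y.2 _

/-- The map of the fundamental sequences. -/
def scHom : sc (𝟙 X) ⟶ sc f where
  τ₁ := unitMap f
  τ₂ := godMap f
  τ₃ := cokernel.map _ _ (unitMap f) (godMap f) (unitMap_comm f)
  comm₁₂ := (unitMap_comm f).symm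
  comm₂₃ := (cokernel.π_desc _ _ _).symm

theorem scHom_π (D : X.Opens) (g : GSec (𝟙 X) D) :
    (scHom f).τ₃.hom.app (op D) (π (𝟙 X) D g) = π f D ((godMap f).hom.app (op D) g) :=
  (congr($((scHom f).comm₂₃).hom.app (op D) g)).symm

theorem bijective_smul_one_tmul {R A M : Type u} [CommRing R] [CommRing A] [Algebra R A] [AddCommGroup M] [Module R M]
    {b : M} (hb : Function.Bijective fun c : R => c • b) :
    Function.Bijective fun c : A => c • ((1 : A) ⊗ₜ[R] b) := by
  let e : R ≃ₗ[R] M := LinearEquiv.ofBijective (LinearMap.toSpanSingleton R M b) hb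
  let E := (TensorProduct.AlgebraTensorModule.rid R A A).symm ≪≫ₗ
    TensorProduct.AlgebraTensorModule.congr (LinearEquiv.refl A A) e
  convert E.bijective using 1
  funext c
  simp only [E, LinearEquiv.trans_apply, TensorProduct.AlgebraTensorModule.rid_symm_apply,
    TensorProduct.AlgebraTensorModule.congr_tmul, LinearEquiv.refl_apply]
  rw [show e 1 = b from one_smul R b, TensorProduct.smul_tmul', smul_eq_mul, mul_one]

theorem good_id : Good (𝟙 X) := fun L hL x => by
  obtain ⟨D, s, hx, hs⟩ := ProjUP.exists_isGen_of_invertible hL x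
  exact ⟨D, s, hx, hs⟩

variable {f}

/-- The class of a pullback. -/
theorem cl_pullback (hG : Good f) {L : X.Modules} (hL : PicF.IsInvertible L)
    (hL' : PicF.IsInvertible ((Scheme.Modules.pullback f).obj L)) :
    CohFound.mp (unitMap f) 1 ⊤ (cl good_id L hL) = cl hG _ hL' := by
  obtain ⟨e, he⟩ := exists_isStGen hL
  obtain ⟨q, hq⟩ := exists_isRep good_id hL he
  let e' : ∀ y : Y, (((Scheme.Modules.pullback f).obj L).presheaf.stalk y : Type u) := fun y =>
    M2.pullStalkEquiv f y L (1 ⊗ₜ e (f y))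
  have he' : IsStGen _ e' := fun y => by
    convert (M2.pullStalkEquiv f y L).bijective.comp (bijective_smul_one_tmul (A := Y.presheaf.stalk y) (he (f y)))
      using 1
    funext c
    exact ((M2.pullStalkEquiv f y L).map_smul c _).symm
  have key : IsRep f ((Scheme.Modules.pullback f).obj L) e' ((scHom f).τ₃.hom.app (op ⊤) q) := by
    choose D s hx hs using good_id L hL
    refine isRep_of_cover f he' _ fun x => ?_
    obtain ⟨g, hg⟩ := exists_rel (𝟙 X) he (hs x)
    refine ⟨D x, M2.pullSec f L (U := D x) (s x), (godMap f).hom.app (op (D x)) g, hx x,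
      Twist.IsGen.pullback f (hs x), fun y => ?_, ?_⟩
    · refine Eq.trans (M2.pullStalkEquiv_tmul f y.1 L (U := D x) y.2 (s x)).symm ?_
      refine Eq.trans ?_ ((M2.pullStalkEquiv f y.1 L).map_smul _ _)
      congr 1
      rw [show L.presheaf.germ (D x) (f y.1) y.2 (s x) = _ from hg ⟨f y.1, y.2⟩, TensorProduct.tmul_smul,
        TensorProduct.smul_tmul', TensorProduct.smul_tmul', Algebra.smul_def, mul_one, smul_eq_mul, mul_one]
      rfl
    · show (sc f).X₃.obj.map _ ((scHom f).τ₃.hom.app (op ⊤) q) = _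
      rw [← NatTrans.naturality_apply (scHom f).τ₃.hom]
      rw [← scHom_π, ← hq _ _ _ (hs x) hg]
      rfl
  rw [cl_eq good_id hL he hq, cl_eq hG hL' he' key]
  show CohFound.mp (scHom f).τ₁ 1 ⊤ (CohFound.delta (sc_shortExact (𝟙 X)) 0 ⊤ _) = _
  rw [CohFound.delta_natural (sc_shortExact (𝟙 X)) (sc_shortExact f) (scHom f)]
  show CohFound.delta (sc_shortExact f) 0 ⊤ _ = CohFound.delta (sc_shortExact f) 0 ⊤ _
  congr 1
  apply (CohFound.hc0 (sc f).X₃ ⊤).injective
  rw [CohFound.hc0_mp]
  exact (congrArg _ (AddEquiv.apply_symm_apply _ _)).trans (AddEquiv.apply_symm_apply _ _).symm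

theorem mp_bijective {X : TopCat.{u}} {F G : CohTop.Ab X} (e : F ≅ G) (n : ℕ) (U : Opens X) :
    Function.Bijective (CohFound.mp e.hom n U) :=
  Function.bijective_iff_has_inverse.2 ⟨CohFound.mp e.inv n U,
    fun x => by rw [← CohFound.mp_comp, e.hom_inv_id, CohFound.mp_id],
    fun x => by rw [← CohFound.mp_comp, e.inv_hom_id, CohFound.mp_id]⟩

/-- `Pic(X) ≅ H¹(X, O^×)`. -/
def picEquivId (X : Scheme.{u}) [PicGrp.Law X] :
    Additive (PicLoc.PicSet X) ≃+ CohFound.Hc (UnitsSh.unitsAb X) 1 ⊤ :=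
  (picEquiv good_id).trans (AddEquiv.ofBijective _ (mp_bijective (idIso (UnitsSh.unitsAb X)) 1 ⊤))

/-- Pullback of classes is the map of `H¹` induced by `comap`. -/
theorem picEquiv_pullHom [PicGrp.Law X] [PicGrp.Law Y] (hG : Good f) (h : PicGrp.PullMul f)
    (c : PicLoc.PicSet X) :
    picEquiv hG (Additive.ofMul (PicGrp.pullHom f h c)) =
      CohFound.mp (UnitsSh.comap f) 1 ⊤ (picEquivId X (Additive.ofMul c)) := by
  obtain ⟨L, hL, rfl⟩ := PicGrp.exists_eq_cls c
  rw [show PicGrp.pullHom f h (PicGrp.cls L hL) = PicGrp.cls _ (PicLoc.isInvertible_pullback f hL) from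
    Subtype.ext rfl, picEquiv_cls, ← cl_pullback hG hL]
  show _ = CohFound.mp (UnitsSh.comap f) 1 ⊤ (CohFound.mp (idIso _).hom 1 ⊤ (picEquiv good_id (Additive.ofMul (PicGrp.cls L hL))))
  rw [picEquiv_cls]
  exact CohFound.mp_comp _ _ 1 ⊤ _

end Groth.Agent.PicH1_21
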