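import Groth.Agent.Lib.PicH1_21.Natural
import Groth.Agent.Lib.TensorMod.IdealMod
import Groth.Agent.Lib.CohFound.DimShift

/-!
# The units sequence of a square zero ideal
-/

set_option autoImplicit false
set_option backward.isDefEq.respectTransparency false

open CategoryTheory CategoryTheory.Limits AlgebraicGeometry TopologicalSpace Opposite

universe u

noncomputable section

namespace Groth.Agent.PicH1_21

variable {X : Scheme.{u}} {I : X.IdealSheafData}

theorem idealIncl_mul_idealIncl (hI : I * I = ⊥) {U : X.Opens} (a b : Γ(ClSub.idealMod I, U)) :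
    M2.idealIncl I a * M2.idealIncl I b = 0 := by
  refine TopCat.Presheaf.section_ext X.sheaf U _ _ fun x hx => ?_
  obtain ⟨W, hW, hxW, hWU'⟩ := exists_isAffineOpen_mem_and_subset hx
  have hWU : W ≤ U := hWU'
  have h : X.presheaf.map (homOfLE hWU).op (M2.idealIncl I a * M2.idealIncl I b) = 0 := by
    rw [map_mul, ← M2.idealIncl_res, ← M2.idealIncl_res]
    have hmem := Ideal.mul_mem_mul ((M2.range_idealIncl I ⟨W, hW⟩).le ⟨M2.res _ hWU a, rfl⟩)
      ((M2.range_idealIncl I ⟨W, hW⟩).le ⟨M2.res _ hWU b, rfl⟩)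
    have e : I.ideal ⟨W, hW⟩ * I.ideal ⟨W, hW⟩ = ⊥ := by
      rw [← Pi.mul_apply, ← Scheme.IdealSheafData.ideal_mul, hI]
      rfl
    rw [e] at hmem
    exact Ideal.mem_bot.1 hmem
  show X.presheaf.germ U x hx _ = X.presheaf.germ U x hx 0
  rw [← TopCat.Presheaf.germ_res_apply X.presheaf (homOfLE hWU) x hxW, h, map_zero, map_zero]

/-- `a ↦ 1 + a`. -/
def oneAddUnit (hI : I * I = ⊥) {U : X.Opens} (a : Γ(ClSub.idealMod I, U)) : Γ(X, U)ˣ where
  val := 1 + M2.idealIncl I a
  inv := 1 - M2.idealIncl I a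
  val_inv := by linear_combination -idealIncl_mul_idealIncl hI a a
  inv_val := by linear_combination -idealIncl_mul_idealIncl hI a a

theorem oneAddUnit_add (hI : I * I = ⊥) {U : X.Opens} (a b : Γ(ClSub.idealMod I, U)) :
    oneAddUnit hI (a + b) = oneAddUnit hI a * oneAddUnit hI b := by
  refine Units.ext ?_
  show (1 : Γ(X, U)) + M2.idealIncl I (a + b) = (1 + M2.idealIncl I a) * (1 + M2.idealIncl I b)
  rw [M2.idealIncl_add]
  linear_combination -idealIncl_mul_idealIncl hI a b

theorem idealIncl_zero (U : X.Opens) : M2.idealIncl I (0 : Γ(ClSub.idealMod I, U)) = 0 :=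
  map_zero ((ClSub.idealModι I).app U).hom

theorem oneAddUnit_res (hI : I * I = ⊥) {U V : X.Opens} (h : V ≤ U) (a : Γ(ClSub.idealMod I, U)) :
    Units.map (X.presheaf.map (homOfLE h).op).hom.toMonoidHom (oneAddUnit hI a) =
      oneAddUnit hI (M2.res _ h a) := by
  refine Units.ext ?_
  show X.presheaf.map (homOfLE h).op (1 + M2.idealIncl I a) = 1 + M2.idealIncl I (M2.res _ h a)
  rw [map_add, map_one, M2.idealIncl_res]

/-- `I ⟶ O^×`, `a ↦ 1 + a`. -/
def oneAdd (hI : I * I = ⊥) : Coh.toAb (ClSub.idealMod I) ⟶ UnitsSh.unitsAb X :=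
  ⟨{ app := fun U => AddCommGrpCat.ofHom
      { toFun := fun a => UnitsSh.sectOfUnit (O := X.presheaf) (oneAddUnit hI (U := U.unop) a)
        map_zero' := congrArg Additive.ofMul (Units.ext (show (1 : Γ(X, U.unop)) + _ = 1 by
          rw [idealIncl_zero, add_zero]))
        map_add' := fun a b => congrArg Additive.ofMul (oneAddUnit_add hI a b) }
     naturality := fun U V i => by
      ext a
      exact (congrArg Additive.ofMul (oneAddUnit_res hI i.unop.le a)).symm }⟩

theorem oneAdd_injective (hI : I * I = ⊥) (U : X.Opens) :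
    Function.Injective ((oneAdd hI).hom.app (op U)) := fun a b h =>
  M2.idealIncl_injective I U
    (add_left_cancel (congrArg (fun t : Additive Γ(X, U)ˣ => (Additive.toMul t).val) h))

theorem oneAdd_comap (hI : I * I = ⊥) : oneAdd hI ≫ UnitsSh.comap I.subschemeι = 0 := by
  apply Sheaf.hom_ext
  ext U a
  refine congrArg Additive.ofMul (Units.ext ?_)
  show I.subschemeι.app U.unop (1 + M2.idealIncl I a) = 1
  rw [map_add, map_one, M2.subschemeι_app_idealIncl, add_zero]

/-- `0 → I → O^× → i_* O₀^× → 0`. -/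
def usc (hI : I * I = ⊥) : ShortComplex (CohTop.Ab X.toTopCat) :=
  ShortComplex.mk (oneAdd hI) (UnitsSh.comap I.subschemeι) (oneAdd_comap hI)

theorem usc_shortExact (hI : I * I = ⊥) : (usc hI).ShortExact := by
  refine CohFound.shortExact_of_sections (fun U => oneAdd_injective hI U) (fun U s hs => ?_) fun U s x hx => ?_
  · have h1 : I.subschemeι.app U ((UnitsSh.unitOfSect (O := X.presheaf) s).val - 1) = 0 := by
      rw [map_sub, map_one, sub_eq_zero]
      exact congrArg (fun t : Additive Γ(I.subscheme, I.subschemeι ⁻¹ᵁ U)ˣ => (Additive.toMul t).val) hs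
    obtain ⟨a, ha⟩ := M2.exists_idealIncl_eq I _ h1
    refine ⟨a, congrArg Additive.ofMul (Units.ext ?_)⟩
    show (1 : Γ(X, U)) + M2.idealIncl I a = _
    rw [ha, add_sub_cancel]
    rfl
  · obtain ⟨W, hW, hxW, hWU'⟩ := exists_isAffineOpen_mem_and_subset hx
    have hWU : W ≤ U := hWU'
    let t : Γ(I.subscheme, I.subschemeι ⁻¹ᵁ W)ˣ :=
      UnitsSh.unitOfSect (O := I.subscheme.presheaf) ((usc hI).X₃.obj.map (homOfLE hWU).op s)
    obtain ⟨b, hb⟩ := I.subschemeι_app_surjective ⟨W, hW⟩ t.val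
    obtain ⟨c, hc⟩ := I.subschemeι_app_surjective ⟨W, hW⟩ t.inv
    have h0 : I.subschemeι.app W (b * c - 1) = 0 := by
      rw [map_sub, map_mul, map_one, hb, hc, t.val_inv, sub_self]
    obtain ⟨a, ha⟩ := M2.exists_idealIncl_eq I _ h0
    have hbu : IsUnit b := by
      refine IsUnit.of_mul_eq_one (c * (1 - M2.idealIncl I a)) ?_
      linear_combination (1 - M2.idealIncl I a) * ha.symm - idealIncl_mul_idealIncl hI a a
    refine ⟨W, hWU, hxW, UnitsSh.sectOfUnit (O := X.presheaf) hbu.unit,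
      congrArg Additive.ofMul (Units.ext ?_)⟩
    exact hb

/-- Closed immersions are good. -/
theorem good_of_isEmbedding {X Y : Scheme.{u}} {f : Y ⟶ X} (hf : Topology.IsClosedEmbedding f) : Good f := by
  intro L hL x
  by_cases hx : x ∈ Set.range f
  · obtain ⟨y, rfl⟩ := hx
    obtain ⟨U, s, hy, hs⟩ := ProjUP.exists_isGen_of_invertible hL y
    obtain ⟨D, hD, hDU⟩ := hf.isInducing.isOpen_iff.1 U.isOpen
    have hle : f ⁻¹ᵁ ⟨D, hD⟩ = U := Opens.ext hDU
    exact ⟨⟨D, hD⟩, M1.mres L hle.le s, (show y ∈ f ⁻¹' D by rw [hDU]; exact hy), hs.mres _⟩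
  · refine ⟨⟨(Set.range f)ᶜ, hf.isClosed_range.isOpen_compl⟩, 0, hx, Twist.isGen_of_stalk fun y hy => ?_⟩
    exact absurd ⟨y, rfl⟩ hy

theorem good_subschemeι (I : X.IdealSheafData) : Good I.subschemeι :=
  good_of_isEmbedding I.subschemeι.isClosedEmbedding

end Groth.Agent.PicH1_21
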