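import Groth.Agent.Lib.PicH1_21.Rep

/-!
# The module attached to a section of the quotient, and the group isomorphism `Pic ≅ H¹`
-/

set_option autoImplicit false
set_option backward.isDefEq.respectTransparency false

open CategoryTheory CategoryTheory.Limits AlgebraicGeometry TopologicalSpace Opposite

universe u

noncomputable section

namespace Groth.Agent.PicH1_21

open Groth.Agent.M1

variable {X Y : Scheme.{u}} {f : Y ⟶ X} (q : QSec f ⊤)

/-- A family of germs coming locally from functions comes from a function. -/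
theorem exists_sec {V : Y.Opens} (c : ∀ y : V, Y.presheaf.stalk y.1)
    (h : ∀ y : V, ∃ (W : Y.Opens) (hW : W ≤ V), y.1 ∈ W ∧
      ∃ r : Γ(Y, W), ∀ z : W, Y.presheaf.germ W z.1 z.2 r = c ⟨z.1, hW z.2⟩) :
    ∃ R : Γ(Y, V), ∀ y : V, Y.presheaf.germ V y.1 y.2 R = c y := by
  choose W hW hy r hr using h
  obtain ⟨R, hR, -⟩ := Y.sheaf.existsUnique_gluing' W V (fun x => homOfLE (hW x))
    (fun y hyV => Opens.mem_iSup.2 ⟨⟨y, hyV⟩, hy _⟩) r fun a b =>
      TopCat.Presheaf.section_ext Y.sheaf (W a ⊓ W b) _ _ fun z hz =>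
        (TopCat.Presheaf.germ_res_apply Y.presheaf (Opens.infLELeft (W a) (W b)) z hz (r a)).trans
          ((hr a ⟨z, hz.1⟩).trans ((hr b ⟨z, hz.2⟩).symm.trans
            (TopCat.Presheaf.germ_res_apply Y.presheaf (Opens.infLERight (W a) (W b)) z hz (r b)).symm))
  refine ⟨R, fun y => ?_⟩
  rw [← hr y ⟨y.1, hy y⟩, ← show Y.presheaf.map (homOfLE (hW y)).op R = r y from hR y,
    TopCat.Presheaf.germ_res_apply]

/-- Locally a function times a lift of `q`. -/
def twPre : TopCat.PrelocalPredicate (fun y : Y => (Y.presheaf.stalk y : Type u)) where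
  pred {U} h := ∃ (D : X.Opens) (g : GSec f D) (hU : U ≤ f ⁻¹ᵁ D), π f D g = qres f le_top q ∧
    ∃ a : Γ(Y, U), ∀ y : U, h y = Y.presheaf.germ U y.1 y.2 a * uv f g ⟨y.1, hU y.2⟩
  res {U V} i h := by
    rintro ⟨D, g, hV, hg, a, ha⟩
    exact ⟨D, g, i.le.trans hV, hg, Y.presheaf.map i.op a, fun y => by
      rw [TopCat.Presheaf.germ_res_apply]
      exact ha ⟨y.1, i.le y.2⟩⟩

/-- Two lifts over an overlap. -/
theorem exists_unit_overlap {D D' : X.Opens} {g : GSec f D} {g' : GSec f D'}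
    (hg : π f D g = qres f le_top q) (hg' : π f D' g' = qres f le_top q) :
    ∃ r : Γ(Y, f ⁻¹ᵁ (D ⊓ D'))ˣ, ∀ (y : Y) (hy : y ∈ f ⁻¹ᵁ (D ⊓ D')),
      uv f g' ⟨y, hy.2⟩ = Y.presheaf.germ (f ⁻¹ᵁ (D ⊓ D')) y hy (r : Γ(Y, f ⁻¹ᵁ (D ⊓ D'))) * uv f g ⟨y, hy.1⟩ := by
  have h : π f (D ⊓ D') (gres f inf_le_left g) = π f (D ⊓ D') (gres f inf_le_right g') := by
    rw [← qres_π, ← qres_π, hg, hg', qres_qres, qres_qres]
  obtain ⟨r, hr⟩ := exists_unit_of_π_eq f h
  exact ⟨r, fun y hy =>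
    congrArg (fun t : T Y y => ((Additive.toMul t : (Y.presheaf.stalk y)ˣ) : Y.presheaf.stalk y)) (hr ⟨y, hy⟩)⟩

instance isModPred_twPre : Mero.IsModPred (twPre q).sheafify where
  zero U := fun y => by
    obtain ⟨D, _, hx, g, hg⟩ := exists_lift f q (show f y.1 ∈ (⊤ : X.Opens) from trivial)
    exact ⟨U ⊓ f ⁻¹ᵁ D, ⟨y.2, hx⟩, homOfLE inf_le_left, D, g, inf_le_right, hg, 0, fun z => by
      rw [map_zero, zero_mul]; rfl⟩
  add U h k hh hk := fun y => by
    obtain ⟨V, hV, i, D, g, hVD, hg, a, ha⟩ := hh y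
    obtain ⟨W, hW, j, E, k', hWE, hk', b, hb⟩ := hk y
    obtain ⟨r, hr⟩ := exists_unit_overlap q hg hk'
    have hle : V ⊓ W ≤ f ⁻¹ᵁ (D ⊓ E) := fun z hz => ⟨hVD hz.1, hWE hz.2⟩
    refine ⟨V ⊓ W, ⟨hV, hW⟩, homOfLE (inf_le_left.trans i.le), D, g, inf_le_left.trans hVD, hg,
      ores inf_le_left a + ores inf_le_right b * ores hle (r : Γ(Y, f ⁻¹ᵁ (D ⊓ E))), fun z => ?_⟩
    show h _ + k _ = _
    refine (congrArg₂ (· + ·) (ha ⟨z.1, z.2.1⟩) (hb ⟨z.1, z.2.2⟩)).trans ?_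
    rw [hr z.1 (hle z.2)]
    simp only [map_add, map_mul, ores, TopCat.Presheaf.germ_res_apply]
    ring
  smul U r h hh := fun y => by
    obtain ⟨V, hV, i, D, g, hVD, hg, a, ha⟩ := hh y
    refine ⟨V, hV, i, D, g, hVD, hg, ores i.le r * a, fun z => ?_⟩
    show _ • h _ = _
    rw [show h _ = _ from ha z, smul_eq_mul, map_mul, ores, TopCat.Presheaf.germ_res_apply, mul_assoc]
    rfl

/-- The invertible module attached to `q`. -/
def twMod : Y.Modules := Mero.modOf (twPre q).sheafify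

/-- A lift of `q` as a section. -/
def twSec {D : X.Opens} (g : GSec f D) (hg : π f D g = qres f le_top q) : Γ(twMod q, f ⁻¹ᵁ D) :=
  ⟨fun y => uv f g y, TopCat.PrelocalPredicate.sheafifyOf ⟨D, g, le_rfl, hg, 1, fun y => by rw [map_one, one_mul]⟩⟩

theorem isGen_twSec {D : X.Opens} (g : GSec f D) (hg : π f D g = qres f le_top q) :
    Twist.IsGen (twMod q) (f ⁻¹ᵁ D) (twSec q g hg) := by
  intro V hV
  constructor
  · intro r r' he
    refine TopCat.Presheaf.section_ext Y.sheaf V r r' fun y hy => ?_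
    exact (Units.mul_left_inj _).1 (congrFun (congrArg Subtype.val he) ⟨y, hy⟩)
  · intro h
    obtain ⟨R, hR⟩ := exists_sec
      (fun y : V => h.1 y * ((Additive.toMul (g ⟨y.1, hV y.2⟩))⁻¹ : (Y.presheaf.stalk y.1)ˣ)) fun y => by
      obtain ⟨W, hW, i, E, k, hWE, hk, a, ha⟩ := h.2 y
      obtain ⟨r, hr⟩ := exists_unit_overlap q hg hk
      have hle : W ≤ f ⁻¹ᵁ (D ⊓ E) := fun z hz => ⟨hV (i.le hz), hWE hz⟩
      refine ⟨W, i.le, hW, a * ores hle (r : Γ(Y, f ⁻¹ᵁ (D ⊓ E))), fun z => ?_⟩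
      rw [show h.1 ⟨z.1, i.le z.2⟩ = _ from ha z, hr z.1 (hle z.2), map_mul, ores,
        TopCat.Presheaf.germ_res_apply, ← mul_assoc, Units.mul_inv_cancel_right]
    refine ⟨R, Subtype.ext (funext fun y => ?_)⟩
    show Y.presheaf.germ V y.1 y.2 R * uv f g ⟨y.1, hV y.2⟩ = h.1 y
    rw [hR y, Units.inv_mul_cancel_right]

theorem isInvertible_twMod : PicF.IsInvertible (twMod q) := by
  refine Twist.isInvertible_of_local _ fun y => ?_
  obtain ⟨D, _, hx, g, hg⟩ := exists_lift f q (show f y ∈ (⊤ : X.Opens) from trivial)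
  exact ⟨f ⁻¹ᵁ D, hx, Twist.nonempty_restrict_iso _ _ _ (isGen_twSec q g hg)⟩

theorem exists_frame_twMod : ∃ e, IsStGen (twMod q) e ∧ IsRep f (twMod q) e q := by
  choose D hD hx g hg using fun x : X => exists_lift f q (show x ∈ (⊤ : X.Opens) from trivial)
  let e : ∀ y : Y, ((twMod q).presheaf.stalk y : Type u) := fun y =>
    (((Additive.toMul (g (f y) ⟨y, hx (f y)⟩))⁻¹ : (Y.presheaf.stalk y)ˣ) : Y.presheaf.stalk y) •
      (twMod q).presheaf.germ (f ⁻¹ᵁ D (f y)) y (hx (f y)) (twSec q (g (f y)) (hg (f y)))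
  have he : IsStGen (twMod q) e := fun y => by
    show Function.Bijective fun c : Y.presheaf.stalk y => c • _ • _
    simp only [← mul_smul]
    exact ((isGen_twSec q _ (hg (f y))).stalk (hx (f y))).comp (Units.mulRight_bijective _)
  refine ⟨e, he, isRep_of_cover f he q fun x =>
    ⟨D x, twSec q (g x) (hg x), g x, hx x, isGen_twSec q _ _, fun z => ?_, (hg x).symm⟩⟩
  obtain ⟨r, hr⟩ := exists_unit_overlap q (hg (f z.1)) (hg x)
  have hz : z.1 ∈ f ⁻¹ᵁ (D (f z.1) ⊓ D x) := ⟨hx (f z.1), z.2⟩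
  have hsec : M1.mres (twMod q) (f.preimage_mono (inf_le_right : D (f z.1) ⊓ D x ≤ D x)) (twSec q (g x) (hg x)) =
      (r : Γ(Y, f ⁻¹ᵁ (D (f z.1) ⊓ D x))) •
        M1.mres (twMod q) (f.preimage_mono inf_le_left) (twSec q (g (f z.1)) (hg (f z.1))) :=
    Subtype.ext (funext fun y => hr y.1 y.2)
  rw [← germ_mres (twMod q) (f.preimage_mono inf_le_right) hz (twSec q (g x) (hg x)), hsec, germ_smul, germ_mres,
    hr z.1 hz, ← mul_smul, mul_assoc, Units.mul_inv, mul_one]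

theorem exists_cl_eq (hG : Good f) (h : H1 f) :
    ∃ (L : Y.Modules) (hL : PicF.IsInvertible L), cl hG L hL = h := by
  obtain ⟨q, rfl⟩ := δ_surjective f h
  obtain ⟨e, he, hq⟩ := exists_frame_twMod q
  exact ⟨twMod q, isInvertible_twMod q, cl_eq hG _ he hq⟩

/-- The class on isomorphism classes. -/
def clPic (hG : Good f) (c : PicLoc.PicSet Y) : H1 f :=
  cl hG (PicGrp.exists_eq_cls c).choose (PicGrp.exists_eq_cls c).choose_spec.choose

theorem clPic_cls (hG : Good f) {L : Y.Modules} (hL : PicF.IsInvertible L) :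
    clPic hG (PicGrp.cls L hL) = cl hG L hL :=
  cl_iso hG _ hL ((PicGrp.cls_eq_cls_iff hL _).1 (PicGrp.exists_eq_cls (PicGrp.cls L hL)).choose_spec.choose_spec).some.symm

theorem clPic_mul [PicGrp.Law Y] (hG : Good f) (a b : PicLoc.PicSet Y) :
    clPic hG (a * b) = clPic hG a + clPic hG b := by
  obtain ⟨L, hL, rfl⟩ := PicGrp.exists_eq_cls a
  obtain ⟨M, hM, rfl⟩ := PicGrp.exists_eq_cls b
  obtain ⟨N, hN, hc⟩ := PicGrp.exists_eq_cls (PicGrp.cls L hL * PicGrp.cls M hM)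
  obtain ⟨φ⟩ := (PicGrp.cl_eq_cl_iff _ _).1
    ((congrArg Subtype.val hc).symm.trans (PicGrp.cls_mul_cls_val hL hM))
  have hLM : PicF.IsInvertible (CohB1.tensorMod L M) := Twist.isInvertible_of_iso φ hN
  rw [hc, clPic_cls, clPic_cls, clPic_cls, cl_iso hG hN hLM φ, cl_tensor hG hL hM hLM]

/-- `Pic(Y) ≅ H¹(X, f_* O^×)`. -/
def picEquiv [PicGrp.Law Y] (hG : Good f) : Additive (PicLoc.PicSet Y) ≃+ H1 f :=
  AddEquiv.ofBijective
    (AddMonoidHom.mk' (fun c => clPic hG (Additive.toMul c)) fun a b =>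
      clPic_mul hG (Additive.toMul a) (Additive.toMul b))
    ⟨by
      refine (injective_iff_map_eq_zero _).2 fun c hc => ?_
      obtain ⟨L, hL, hLc⟩ := PicGrp.exists_eq_cls (Additive.toMul c)
      replace hc : clPic hG (Additive.toMul c) = 0 := hc
      rw [hLc, clPic_cls] at hc
      exact Additive.toMul.injective
        (hLc.trans ((PicGrp.cls_eq_one_iff hL).2 (nonempty_iso_of_cl_eq_zero hG hL hc))),
    fun h => by
      obtain ⟨L, hL, hh⟩ := exists_cl_eq hG h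
      exact ⟨Additive.ofMul (PicGrp.cls L hL), (clPic_cls hG hL).trans hh⟩⟩

theorem picEquiv_cls [PicGrp.Law Y] (hG : Good f) {L : Y.Modules} (hL : PicF.IsInvertible L) :
    picEquiv hG (Additive.ofMul (PicGrp.cls L hL)) = cl hG L hL := clPic_cls hG hL

end Groth.Agent.PicH1_21
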