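import Groth.Agent.Lib.PicH1_21.Thickening
import Groth.Agent.Lib.CohFound.Bridge
import Groth.Prelude.Def_Coh

/-!
# The exact sequence of units and Picard groups of a square zero thickening
-/

set_option autoImplicit false
set_option backward.isDefEq.respectTransparency false

open CategoryTheory CategoryTheory.Limits AlgebraicGeometry TopologicalSpace Opposite

universe u

noncomputable section

namespace Groth.Agent.PicH1_21

open Groth.Agent

variable {X : Scheme.{u}} {I : X.IdealSheafData} (hI : I * I = ⊥)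

/-- `H^n(X, I)` as used here. -/
def hI' (I : X.IdealSheafData) (n : ℕ) : Coh.HH X (ClSub.idealMod I) n ≃+ CohFound.Hc (Coh.toAb (ClSub.idealMod I)) n ⊤ :=
  CohFound.hExt (Coh.toAb (ClSub.idealMod I)) n

/-- `H⁰(I) → Γ(O)ˣ`. -/
def εAdd : Coh.HH X (ClSub.idealMod I) 0 →+ Additive Γ(X, ⊤)ˣ :=
  ((oneAdd hI).hom.app (op ⊤)).hom.comp
    ((hI' I 0).trans (CohFound.hc0 (Coh.toAb (ClSub.idealMod I)) ⊤)).toAddMonoidHom

theorem εAdd_injective : Function.Injective (εAdd hI) :=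
  (oneAdd_injective hI ⊤).comp ((hI' I 0).trans (CohFound.hc0 (Coh.toAb (ClSub.idealMod I)) ⊤)).injective

/-- Restriction of global units. -/
abbrev restUnits (I : X.IdealSheafData) : Γ(X, ⊤)ˣ →* Γ(I.subscheme, ⊤)ˣ :=
  Units.map I.subschemeι.appTop.hom.toMonoidHom

theorem restUnits_eq_one_iff (v : Γ(X, ⊤)ˣ) :
    restUnits I v = 1 ↔ ∃ a, εAdd hI a = Additive.ofMul v := by
  constructor
  · intro h
    have : Mono (usc hI).f := (usc_shortExact hI).mono_f
    obtain ⟨a, ha⟩ := CohFound.exact_app (usc_shortExact hI).exact (U := ⊤) (UnitsSh.sectOfUnit (O := X.presheaf) v)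
      (congrArg Additive.ofMul h)
    exact ⟨((hI' I 0).trans (CohFound.hc0 (Coh.toAb (ClSub.idealMod I)) ⊤)).symm a, by
      show (oneAdd hI).hom.app (op ⊤) (((hI' I 0).trans (CohFound.hc0 (Coh.toAb (ClSub.idealMod I)) ⊤)) _) = _
      rw [AddEquiv.apply_symm_apply]
      exact ha⟩
  · rintro ⟨a, ha⟩
    refine Additive.ofMul.injective ?_
    show (UnitsSh.comap I.subschemeι).hom.app (op ⊤) (Additive.ofMul v) = 0
    refine (congrArg ((UnitsSh.comap I.subschemeι).hom.app (op ⊤)) ha.symm).trans ?_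
    exact congr($(oneAdd_comap hI).hom.app (op ⊤) _)

/-- The connecting map on global units. -/
def d₀ : Additive Γ(I.subscheme, ⊤)ˣ →+ CohFound.Hc (Coh.toAb (ClSub.idealMod I)) 1 ⊤ :=
  CohFound.delta₀ (usc_shortExact hI) ⊤

/-- The map induced by `a ↦ 1 + a` in degree one. -/
def m₁ : CohFound.Hc (Coh.toAb (ClSub.idealMod I)) 1 ⊤ →+ CohFound.Hc (UnitsSh.unitsAb X) 1 ⊤ :=
  CohFound.mp (oneAdd hI) 1 ⊤

/-- The connecting map in degree one. -/
def d₁ : H1 I.subschemeι →+ CohFound.Hc (Coh.toAb (ClSub.idealMod I)) 2 ⊤ :=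
  CohFound.delta (usc_shortExact hI) 1 ⊤

theorem d₀_eq_zero_iff (v : Γ(I.subscheme, ⊤)ˣ) :
    d₀ hI (Additive.ofMul v) = 0 ↔ ∃ w, restUnits I w = v :=
  ⟨fun h => by
    obtain ⟨w, hw⟩ := (SetLike.ext_iff.1 (CohFound.delta₀_ker (usc_shortExact hI) ⊤) (Additive.ofMul v)).1 h
    exact ⟨Additive.toMul w, congrArg Additive.toMul hw⟩,
  fun ⟨w, hw⟩ => (SetLike.ext_iff.1 (CohFound.delta₀_ker (usc_shortExact hI) ⊤) (Additive.ofMul v)).2
    ⟨Additive.ofMul w, congrArg Additive.ofMul hw⟩⟩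

theorem m₁_eq_zero_iff (y : CohFound.Hc (Coh.toAb (ClSub.idealMod I)) 1 ⊤) :
    m₁ hI y = 0 ↔ ∃ v, d₀ hI v = y := by
  constructor
  · intro h
    obtain ⟨z, hz⟩ := CohFound.exact₁ (usc_shortExact hI) 0 ⊤ y h
    exact ⟨CohFound.hc0 (usc hI).X₃ ⊤ z,
      (congrArg _ ((CohFound.hc0 (usc hI).X₃ ⊤).symm_apply_apply z)).trans hz⟩
  · rintro ⟨v, rfl⟩
    exact CohFound.mp_delta (usc_shortExact hI) 0 ⊤ _

theorem comap_eq_zero_iff (y : CohFound.Hc (UnitsSh.unitsAb X) 1 ⊤) :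
    CohFound.mp (UnitsSh.comap I.subschemeι) 1 ⊤ y = 0 ↔ ∃ x, m₁ hI x = y := by
  constructor
  · intro h
    exact CohFound.exact₂ (usc_shortExact hI) 1 ⊤ y h
  · rintro ⟨x, rfl⟩
    refine (CohFound.mp_comp (oneAdd hI) (UnitsSh.comap I.subschemeι) 1 ⊤ x).symm.trans ?_
    rw [oneAdd_comap]
    exact CohFound.mp_zero _ _ 1 ⊤ x

theorem d₁_eq_zero_iff (y : H1 I.subschemeι) :
    d₁ hI y = 0 ↔ ∃ x, CohFound.mp (UnitsSh.comap I.subschemeι) 1 ⊤ x = y :=
  ⟨fun h => CohFound.exact₃ (usc_shortExact hI) 1 ⊤ y h, fun ⟨x, hx⟩ => by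
    rw [← hx]; exact CohFound.delta_mp (usc_shortExact hI) 1 ⊤ x⟩

theorem symm_comp_eq_zero_iff {A B C : Type*} [AddCommGroup A] [AddCommGroup B] [AddCommGroup C] (e : C ≃+ B)
    (f : A →+ B) (a : A) : e.symm.toAddMonoidHom.comp f a = 0 ↔ f a = 0 :=
  AddEquiv.map_eq_zero_iff (h := e.symm) (x := f a)

theorem comp_comp_eq_zero_iff {A A' B C : Type*} [AddCommGroup A] [AddCommGroup A'] [AddCommGroup B] [AddCommGroup C]
    (e : A ≃+ A') (g : C ≃+ B) (f : A' →+ B) (a : A) :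
    g.symm.toAddMonoidHom.comp (f.comp e.toAddMonoidHom) a = 0 ↔ f (e a) = 0 :=
  AddEquiv.map_eq_zero_iff (h := g.symm) (x := f (e a))

theorem exists_comp_comp_iff {A A' B C : Type*} [AddCommGroup A] [AddCommGroup A'] [AddCommGroup B] [AddCommGroup C]
    (e : A ≃+ A') (g : C ≃+ B) (f : A' →+ B) (c : C) :
    (∃ a, g.symm.toAddMonoidHom.comp (f.comp e.toAddMonoidHom) a = c) ↔ ∃ a', f a' = g c :=
  ⟨fun ⟨a, ha⟩ => ⟨e a, by rw [← ha]; exact (g.apply_symm_apply _).symm⟩,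
    fun ⟨a', ha⟩ => ⟨e.symm a', (congrArg g.symm ((congrArg f (e.apply_symm_apply a')).trans ha)).trans (g.symm_apply_apply c)⟩⟩

theorem exists_symm_comp_iff {A B C : Type*} [AddCommGroup A] [AddCommGroup B] [AddCommGroup C] (e : C ≃+ B)
    (f : A →+ B) (c : C) : (∃ a, e.symm.toAddMonoidHom.comp f a = c) ↔ ∃ a, f a = e c :=
  exists_congr fun a => e.symm_apply_eq

/-- `Γ(O₀)ˣ → H¹(I)`. -/
def δ₀Add : Additive Γ(I.subscheme, ⊤)ˣ →+ Coh.HH X (ClSub.idealMod I) 1 :=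
  (hI' I 1).symm.toAddMonoidHom.comp (d₀ hI)

theorem δ₀Add_eq_zero_iff (v : Γ(I.subscheme, ⊤)ˣ) :
    δ₀Add hI (Additive.ofMul v) = 0 ↔ ∃ w, restUnits I w = v :=
  (symm_comp_eq_zero_iff (hI' I 1) (d₀ hI) _).trans (d₀_eq_zero_iff hI v)

/-- `H¹(I) → Pic(X)`. -/
def αAdd [PicGrp.Law X] : Coh.HH X (ClSub.idealMod I) 1 →+ Additive (PicLoc.PicSet X) :=
  (picEquivId X).symm.toAddMonoidHom.comp ((m₁ hI).comp (hI' I 1).toAddMonoidHom)

theorem αAdd_eq_zero_iff [PicGrp.Law X] (x : Coh.HH X (ClSub.idealMod I) 1) :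
    αAdd hI x = 0 ↔ ∃ v, δ₀Add hI v = x :=
  ((comp_comp_eq_zero_iff (hI' I 1) (picEquivId X) (m₁ hI) x).trans (m₁_eq_zero_iff hI _)).trans
    (exists_symm_comp_iff (hI' I 1) (d₀ hI) x).symm

theorem pullHom_eq_one_iff [PicGrp.Law X] [PicGrp.Law I.subscheme] (hi : PicGrp.PullMul I.subschemeι)
    (c : PicLoc.PicSet X) :
    PicGrp.pullHom I.subschemeι hi c = 1 ↔ ∃ x, αAdd hI x = Additive.ofMul c := by
  refine Iff.trans ?_ (((comap_eq_zero_iff hI _).trans
    (exists_comp_comp_iff (hI' I 1) (picEquivId X) (m₁ hI) (Additive.ofMul c)).symm))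
  rw [← picEquiv_pullHom (good_subschemeι I) hi c]
  exact ⟨fun h => by rw [h]; exact map_zero (picEquiv (good_subschemeι I)),
    fun h => congrArg Additive.toMul ((picEquiv (good_subschemeι I)).injective
      (h.trans (map_zero (picEquiv (good_subschemeι I))).symm))⟩

/-- `Pic(X₀) → H²(I)`. -/
def δ₁Add [PicGrp.Law I.subscheme] : Additive (PicLoc.PicSet I.subscheme) →+ Coh.HH X (ClSub.idealMod I) 2 :=
  (hI' I 2).symm.toAddMonoidHom.comp
    ((d₁ hI).comp (picEquiv (good_subschemeι I)).toAddMonoidHom)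

theorem δ₁Add_eq_zero_iff [PicGrp.Law X] [PicGrp.Law I.subscheme] (hi : PicGrp.PullMul I.subschemeι)
    (c : PicLoc.PicSet I.subscheme) :
    δ₁Add hI (Additive.ofMul c) = 0 ↔ ∃ d, PicGrp.pullHom I.subschemeι hi d = c := by
  refine (symm_comp_eq_zero_iff (hI' I 2) ((d₁ hI).comp (picEquiv (good_subschemeι I)).toAddMonoidHom) _).trans ?_
  refine (d₁_eq_zero_iff hI _).trans ⟨fun ⟨x, hx⟩ => ?_, fun ⟨d, hd⟩ => ?_⟩
  · refine ⟨Additive.toMul ((picEquivId X).symm x), Additive.ofMul.injective ((picEquiv (good_subschemeι I)).injective ?_)⟩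
    rw [picEquiv_pullHom (good_subschemeι I) hi]
    exact (congrArg _ (AddEquiv.apply_symm_apply _ _)).trans hx
  · exact ⟨picEquivId X (Additive.ofMul d), by rw [← picEquiv_pullHom (good_subschemeι I) hi, hd]; rfl⟩

/-- If global functions lift then global units lift. -/
theorem restUnits_surjective (hI : I * I = ⊥) (h : Function.Surjective I.subschemeι.appTop.hom) :
    Function.Surjective (restUnits I) := by
  intro t
  obtain ⟨b, hb⟩ := h t.val
  obtain ⟨c, hc⟩ := h t.inv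
  have h0 : I.subschemeι.app ⊤ (b * c - 1) = 0 := by
    show I.subschemeι.appTop.hom (b * c - 1) = 0
    rw [map_sub, map_mul, map_one, hb, hc, t.val_inv, sub_self]
  obtain ⟨a, ha⟩ := M2.exists_idealIncl_eq I _ h0
  have hbu : IsUnit b := by
    refine IsUnit.of_mul_eq_one (c * (1 - M2.idealIncl I a)) ?_
    linear_combination (1 - M2.idealIncl I a) * ha.symm - idealIncl_mul_idealIncl hI a a
  exact ⟨hbu.unit, Units.ext hb⟩

end Groth.Agent.PicH1_21
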