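import Groth.Prelude.Def_UnitsSh
import Groth.Agent.Lib.CohFound.Flasque
import Groth.Agent.Lib.CohFound.ModAb

/-!
# Units of a scheme inside the flasque sheaf of families of units of the local rings
-/

set_option autoImplicit false
set_option backward.isDefEq.respectTransparency false

open CategoryTheory CategoryTheory.Limits AlgebraicGeometry TopologicalSpace Opposite

universe u

noncomputable section

namespace Groth.Agent.PicH1_21

variable {X Y : Scheme.{u}}

/-- Units of the local ring, written additively. -/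
abbrev T (Y : Scheme.{u}) (y : Y.toTopCat) : Type u := Additive (Y.presheaf.stalk y)ˣ

/-- Families of units of the local rings. -/
def godPre (Y : Scheme.{u}) : TopCat.Presheaf AddCommGrpCat.{u} Y.toTopCat where
  obj U := AddCommGrpCat.of (∀ y : U.unop, T Y y.1)
  map i := AddCommGrpCat.ofHom
    { toFun := fun g y => g ⟨y.1, i.unop.le y.2⟩
      map_zero' := rfl
      map_add' := fun _ _ => rfl }

theorem isSheaf_godPre (Y : Scheme.{u}) : (godPre Y).IsSheaf :=
  (TopCat.Presheaf.isSheaf_iff_isSheaf_comp (forget AddCommGrpCat.{u}) _).2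
    (TopCat.Presheaf.toTypes_isSheaf Y.toTopCat (T Y))

/-- The sheaf of families of units of the local rings. -/
def godSh (Y : Scheme.{u}) : CohTop.Ab Y.toTopCat := ⟨godPre Y, isSheaf_godPre Y⟩

/-- The germs of a unit. -/
def gu (U : Y.Opens) (y : U) : Γ(Y, U)ˣ →* (Y.presheaf.stalk y.1)ˣ :=
  Units.map (Y.presheaf.germ U y.1 y.2).hom.toMonoidHom

theorem gu_res {U V : Y.Opens} (i : V ⟶ U) (r : Γ(Y, U)ˣ) (y : V) :
    gu V y (Units.map (Y.presheaf.map i.op).hom.toMonoidHom r) = gu U ⟨y.1, i.le y.2⟩ r :=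
  Units.ext (TopCat.Presheaf.germ_res_apply Y.presheaf i y.1 y.2 (r : Γ(Y, U)))

/-- A unit seen as the family of its germs. -/
def unitsGod (Y : Scheme.{u}) : UnitsSh.unitsAb Y ⟶ godSh Y :=
  ⟨{ app := fun U => AddCommGrpCat.ofHom
      { toFun := fun r y => Additive.ofMul (gu U.unop y (UnitsSh.unitOfSect r))
        map_zero' := funext fun y => congrArg Additive.ofMul (map_one _)
        map_add' := fun r s => funext fun y => congrArg Additive.ofMul (map_mul _ _ _) }
     naturality := fun U V i => by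
      ext r
      funext y
      exact congrArg Additive.ofMul (gu_res i.unop (UnitsSh.unitOfSect r) y) }⟩

theorem unitsGod_app (U : Y.Opens) (r : (UnitsSh.unitsAb Y).obj.obj (op U)) (y : U) :
    (unitsGod Y).hom.app (op U) r y = Additive.ofMul (gu U y (UnitsSh.unitOfSect r)) := rfl

theorem unitsGod_injective (U : Y.Opens) : Function.Injective ((unitsGod Y).hom.app (op U)) := fun r s h => by
  refine Additive.toMul.injective (Units.ext ?_)
  refine TopCat.Presheaf.section_ext Y.sheaf U _ _ fun y hy => ?_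
  exact congrArg (fun t : T Y y => (Additive.toMul t).val) (congrFun h ⟨y, hy⟩)

theorem god_surjective {U V : Y.Opens} (h : V ≤ U) :
    Function.Surjective ((godSh Y).obj.map (homOfLE h).op) := by
  classical
  intro g
  exact ⟨fun y => if hy : y.1 ∈ V then g ⟨y.1, hy⟩ else 0, funext fun y => dif_pos y.2⟩

variable (f : Y ⟶ X)

/-- `0 → f_*O^× → f_*G → Q → 0`. -/
def sc : ShortComplex (CohTop.Ab X.toTopCat) :=
  ShortComplex.mk ((CohTop.push f.base).map (unitsGod Y)) (cokernel.π _) (cokernel.condition _)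

instance mono_push_unitsGod : Mono ((CohTop.push f.base).map (unitsGod Y)) :=
  CohFound.mono_of_injective_app _ fun U => unitsGod_injective (f ⁻¹ᵁ U)

theorem sc_shortExact : (sc f).ShortExact where
  exact := ShortComplex.exact_of_g_is_cokernel _ (cokernelIsCokernel _)
  mono_f := mono_push_unitsGod f
  epi_g := inferInstanceAs (Epi (cokernel.π _))

instance isFlasque_push_god : TopCat.Sheaf.IsFlasque (sc f).X₂ :=
  CohFound.isFlasque_mk _ fun _ _ h => god_surjective (f.preimage_mono h)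

/-- Sections of the quotient. -/
abbrev QSec (D : X.Opens) : Type u := (sc f).X₃.obj.obj (op D)

/-- Families of units on `f⁻¹ D`. -/
abbrev GSec (D : X.Opens) : Type u := ∀ y : ((f ⁻¹ᵁ D : Y.Opens)), T Y y.1

/-- The class of a family in the quotient. -/
def π (D : X.Opens) : GSec f D →+ QSec f D where
  toFun g := (sc f).g.hom.app (op D) g
  map_zero' := ((sc f).g.hom.app (op D)).hom.map_zero
  map_add' := ((sc f).g.hom.app (op D)).hom.map_add

/-- Restriction of families. -/
def gres {D D' : X.Opens} (h : D' ≤ D) (g : GSec f D) : GSec f D' := fun y => g ⟨y.1, f.preimage_mono h y.2⟩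

/-- Restriction in the quotient. -/
def qres {D D' : X.Opens} (h : D' ≤ D) : QSec f D →+ QSec f D' := ((sc f).X₃.obj.map (homOfLE h).op).hom

theorem qres_π {D D' : X.Opens} (h : D' ≤ D) (g : GSec f D) : qres f h (π f D g) = π f D' (gres f h g) :=
  (NatTrans.naturality_apply (sc f).g.hom (homOfLE h).op g).symm

theorem qres_qres {D D' D'' : X.Opens} (h : D' ≤ D) (h' : D'' ≤ D') (q : QSec f D) :
    qres f h' (qres f h q) = qres f (h'.trans h) q :=
  (CategoryTheory.Functor.map_comp_apply (sc f).X₃.obj (homOfLE h).op (homOfLE h').op q).symm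

theorem qres_refl {D : X.Opens} (q : QSec f D) : qres f le_rfl q = q := by
  show (sc f).X₃.obj.map (homOfLE (le_refl D)).op q = q
  rw [Subsingleton.elim (homOfLE (le_refl D)).op (𝟙 (op D)), CategoryTheory.Functor.map_id]
  rfl

/-- Quotient sections lift locally. -/
theorem exists_lift {D : X.Opens} (q : QSec f D) {x : X} (hx : x ∈ D) :
    ∃ (D' : X.Opens) (h : D' ≤ D), x ∈ D' ∧ ∃ g, π f D' g = qres f h q := by
  haveI := (sc_shortExact f).epi_g
  exact CohFound.locally_lift_of_epi (sc f).g D q hx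

/-- Two lifts differ by a unit. -/
theorem exists_unit_of_π_eq {D : X.Opens} {g g' : GSec f D} (h : π f D g = π f D g') :
    ∃ r : Γ(Y, f ⁻¹ᵁ D)ˣ, ∀ y, g' y = Additive.ofMul (gu (f ⁻¹ᵁ D) y r) + g y := by
  haveI := (sc_shortExact f).mono_f
  obtain ⟨t, ht⟩ := CohFound.exact_app (sc_shortExact f).exact (U := D) (g' - g) (by
    show π f D (g' - g) = 0
    rw [map_sub, h, sub_self])
  refine ⟨UnitsSh.unitOfSect t, fun y => ?_⟩
  have := congrFun ht y
  exact (sub_eq_iff_eq_add.1 this.symm)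

theorem π_units {D : X.Opens} (r : Γ(Y, f ⁻¹ᵁ D)ˣ) (g : GSec f D) :
    π f D (fun y => Additive.ofMul (gu (f ⁻¹ᵁ D) y r) + g y) = π f D g := by
  have h0 : π f D (fun y => Additive.ofMul (gu (f ⁻¹ᵁ D) y r)) = 0 :=
    congr($((sc f).zero).hom.app (op D) (UnitsSh.sectOfUnit r))
  rw [show (fun y => Additive.ofMul (gu (f ⁻¹ᵁ D) y r) + g y) = (fun y => Additive.ofMul (gu (f ⁻¹ᵁ D) y r)) + g from rfl,
    map_add, h0, zero_add]

theorem q_ext {ι : Type u} {D : X.Opens} (W : ι → X.Opens) (hW : ∀ i, W i ≤ D) (hcov : D ≤ ⨆ i, W i)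
    {q q' : QSec f D} (h : ∀ i, qres f (hW i) q = qres f (hW i) q') : q = q' :=
  TopCat.Sheaf.eq_of_locally_eq' (sc f).X₃ W D (fun i => homOfLE (hW i)) hcov _ _ h

theorem q_glue {ι : Type u} {D : X.Opens} (W : ι → X.Opens) (hW : ∀ i, W i ≤ D) (hcov : D ≤ ⨆ i, W i)
    (q : ∀ i, QSec f (W i))
    (h : ∀ i j, qres f (inf_le_left : W i ⊓ W j ≤ W i) (q i) = qres f (inf_le_right : W i ⊓ W j ≤ W j) (q j)) :
    ∃ Q : QSec f D, ∀ i, qres f (hW i) Q = q i :=
  (TopCat.Sheaf.existsUnique_gluing' (sc f).X₃ W D (fun i => homOfLE (hW i)) hcov q h).exists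

/-- `H¹(X, f_*O^×)`. -/
abbrev H1 : Type u := CohFound.Hc ((CohTop.push f.base).obj (UnitsSh.unitsAb Y)) 1 ⊤

/-- The connecting map. -/
def δ : QSec f ⊤ →+ H1 f := CohFound.delta₀ (sc_shortExact f) ⊤

theorem δ_surjective : Function.Surjective (δ f) :=
  CohFound.delta₀_surjective (sc_shortExact f) ⊤ (CohFound.subsingleton_hc_of_isFlasque (sc f).X₂ 0 ⊤)

theorem δ_eq_zero_iff (q : QSec f ⊤) : δ f q = 0 ↔ ∃ g, π f ⊤ g = q := by
  rw [← AddMonoidHom.mem_ker, δ, CohFound.delta₀_ker]
  rfl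

theorem δ_π (g : GSec f ⊤) : δ f (π f ⊤ g) = 0 := (δ_eq_zero_iff f _).2 ⟨g, rfl⟩

end Groth.Agent.PicH1_21
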